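/-
A four group `U` acting on a 2-group `T` of rank at least two: some non-identity element of `U`
centralizes an involution other than a given central one, unless a fusion configuration occurs.
-/
import Cfsg.Agent.PGroups.Bounds
import Cfsg.Agent.PGroups.CyclicMaximal
import Mathlib

set_option autoImplicit false
set_option linter.style.haveILetI false

namespace Cfsg.Lib.FoursRankOne

open Subgroup

variable {P : Type*} [Group P]

theorem eq_or_eq_mul_of_index_two {K Z : Subgroup P} (h : Z.relIndex K = 2) {x y : P}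
    (hx : x ∈ K) (hxZ : x ∉ Z) (hy : y ∈ K) : y ∈ Z ∨ x⁻¹ * y ∈ Z := by
  by_cases hy' : y ∈ Z
  · exact Or.inl hy'
  refine Or.inr ?_
  have h1 := mul_mem_iff_of_index_two (H := Z.subgroupOf K) h (a := ⟨x⁻¹, inv_mem hx⟩) (b := ⟨y, hy⟩)
  simp only [mem_subgroupOf, MulMemClass.mk_mul_mk, inv_mem_iff, hxZ, hy', iff_self, iff_true] at h1
  exact h1

variable {z : P}

/-- If all conjugates of an involution `s` lie in `{s, s z}`, some element of `U` fixes `s`. -/
theorem fix_of_small (U : Subgroup P) (hU : IsKleinFour U) (hzc : ∀ g : P, g * z = z * g)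
    (hzz : z * z = 1) (s : P) (h : ∀ g : P, g * s * g⁻¹ = s ∨ g * s * g⁻¹ = s * z) :
    ∃ u ∈ U, u ≠ 1 ∧ u * s = s * u := by
  haveI : Finite U := Nat.finite_of_card_ne_zero (by rw [hU.card_four]; norm_num)
  haveI : Nontrivial U := Finite.one_lt_card_iff_nontrivial.1 (by rw [hU.card_four]; norm_num)
  obtain ⟨u₁, hu₁⟩ := exists_ne (1 : U)
  obtain ⟨u₂, hu₂, hu₂'⟩ : ∃ u₂ : U, u₂ ≠ 1 ∧ u₂ ≠ u₁ := by
    by_contra hc
    push Not at hc
    have h1 : (Set.univ : Set U) ⊆ {1, u₁} := fun x _ => by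
      by_cases hx : x = 1
      · exact Or.inl hx
      · exact Or.inr (hc x hx)
    have h2 := (Set.ncard_le_ncard h1).trans (Set.ncard_insert_le _ _)
    rw [Set.ncard_singleton, Set.ncard_univ, hU.card_four] at h2
    omega
  by_contra hc
  push Not at hc
  have hmove : ∀ u : U, u ≠ 1 → (u : P) * s * (u : P)⁻¹ = s * z := fun u hu =>
    (h u).resolve_left fun he => hc u u.2 (fun hh => hu (Subtype.ext hh)) (mul_inv_eq_iff_eq_mul.1 he)
  have h3 : (u₁ * u₂ : U) ≠ 1 := fun he => by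
    have hu : u₁⁻¹ = u₁ := inv_eq_of_mul_eq_one_right (by
      haveI := hU
      exact IsKleinFour.mul_self u₁)
    exact hu₂' ((eq_inv_of_mul_eq_one_right he).trans hu)
  have h4 := hmove _ h3
  push_cast at h4
  rw [show (u₁ : P) * u₂ * s * ((u₁ : P) * u₂)⁻¹ = u₁ * ((u₂ : P) * s * (u₂ : P)⁻¹) * (u₁ : P)⁻¹ by group,
    hmove u₂ hu₂, show (u₁ : P) * (s * z) * (u₁ : P)⁻¹ = (u₁ * s * (u₁ : P)⁻¹) * ((u₁ : P) * z * (u₁ : P)⁻¹) by group,
    hmove u₁ hu₁, hzc (u₁ : P), mul_inv_cancel_right, mul_assoc, hzz, mul_one] at h4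
  have hz1 : z = 1 := by simpa using h4.symm
  have := hmove u₁ hu₁
  rw [hz1, mul_one] at this
  exact hc u₁ u₁.2 (fun hh => hu₁ (Subtype.ext hh)) (mul_inv_eq_iff_eq_mul.1 this)

theorem zpow_eq_iff_dvd {c : P} {k : ℕ} (hc : orderOf c = 2 ^ k) (i j : ℤ) :
    c ^ i = c ^ j ↔ (2 : ℤ) ^ k ∣ j - i := by
  rw [zpow_eq_zpow_iff_modEq, hc, Int.modEq_iff_dvd, Nat.cast_pow, Nat.cast_ofNat]

theorem exists_solve (k : ℕ) (d m : ℤ) (hd : Odd d) (hm : Even m) :
    ∃ i : ℤ, (2 : ℤ) ^ k ∣ 2 * d * i - m := by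
  obtain ⟨a, b, hab⟩ := (IsCoprime.pow_left (m := k)
    (show IsCoprime (2 : ℤ) d by obtain ⟨t, rfl⟩ := hd; exact ⟨-t, 1, by ring⟩))
  obtain ⟨m', rfl⟩ := hm
  refine ⟨b * m', -2 * a * m', ?_⟩
  linear_combination (2 * m') * hab

/-- The main local statement. -/
theorem core [Finite P] (hP : IsPGroup 2 P) (T : Subgroup P) [hTn : T.Normal] (U : Subgroup P)
    (hU : IsKleinFour U) (hTU : ∀ g : P, ∃ t ∈ T, ∃ u ∈ U, g = t * u) (z : P) (hzT : z ∈ T)
    (hzc : ∀ g : P, g * z = z * g) (hzz : z * z = 1) (hz1 : z ≠ 1)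
    (hrank : ∃ s ∈ T, s * s = 1 ∧ s ≠ 1 ∧ s ≠ z)
    (hfus : ∀ X : Subgroup P, X ≤ T → X.relIndex T = 2 → (∀ x ∈ X, x * x = 1 → x = 1 ∨ x = z) →
      (∀ g : P, g * g ∈ X) → ∀ g s : P, s ∈ T → s ∉ X → s * s = 1 → g * s = s * g → g * g = z → False) :
    ∃ u ∈ U, u ≠ 1 ∧ ∃ s ∈ T, s * s = 1 ∧ s ≠ 1 ∧ s ≠ z ∧ u * s = s * u := by
  classical
  haveI : Fact (Nat.Prime 2) := ⟨Nat.prime_two⟩
  by_contra hcon
  have hsmall : ∀ s ∈ T, s * s = 1 → s ≠ 1 → s ≠ z →
      ¬ ∀ g : P, g * s * g⁻¹ = s ∨ g * s * g⁻¹ = s * z := fun s hsT hss hs1 hsz h => by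
    obtain ⟨u, hu, hu1, hus⟩ := fix_of_small U hU hzc hzz s h
    exact hcon ⟨u, hu, hu1, s, hsT, hss, hs1, hsz, hus⟩
  have hsqeq : ∀ g : P, g * g = 1 → g⁻¹ = g := fun g hg => inv_eq_of_mul_eq_one_right hg
  obtain ⟨X, ⟨hXn, hXc, hXT⟩, hmax⟩ := exists_maximal_of_wellFoundedGT
    (fun A : Subgroup P => A.Normal ∧ IsMulCommutative A ∧ A ≤ T) ⟨⊥, inferInstance, inferInstance, bot_le⟩
  haveI := hXn
  have hcomm : ∀ x ∈ X, ∀ y ∈ X, x * y = y * x := fun x hx y hy =>
    congrArg Subtype.val (hXc.is_comm.comm (⟨x, hx⟩ : X) ⟨y, hy⟩)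
  -- self-centralizing in `T`
  have hCX : ∀ t ∈ T, (∀ x ∈ X, t * x = x * t) → t ∈ X := by
    by_contra hc
    push Not at hc
    obtain ⟨t, htT, htc, htX⟩ := hc
    have hlt : X < centralizer (X : Set P) ⊓ T := by
      refine lt_of_le_of_ne (le_inf (fun x hx => mem_centralizer_iff.2 fun y hy => hcomm y hy x hx) hXT)
        fun he => htX ?_
      rw [he]
      exact ⟨mem_centralizer_iff.2 fun y hy => (htc y hy).symm, htT⟩
    obtain ⟨K, hKn, hXK, hKC, hi⟩ := Cfsg.Lib.PGroups.exists_normal_relIndex_prime hP hlt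
    obtain ⟨y, hyK, hyX⟩ : ∃ y ∈ K, y ∉ X := by
      by_contra h'
      push Not at h'
      rw [relIndex_eq_one.2 (fun a ha => h' a ha)] at hi
      omega
    have hyc : ∀ x ∈ X, y * x = x * y := fun x hx => (mem_centralizer_iff.1 (hKC hyK).1 x hx).symm
    have hKcomm : ∀ a ∈ K, a * y = y * a := fun a ha => by
      rcases eq_or_eq_mul_of_index_two hi hyK hyX ha with h' | h'
      · exact (hyc a h').symm
      · have := hyc _ h'
        rw [mul_inv_cancel_left] at this
        calc a * y = y * (y⁻¹ * a * y) := by group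
          _ = y * a := by rw [← this]
    have hKc : IsMulCommutative K := ⟨⟨fun a b => Subtype.ext (by
      rcases eq_or_eq_mul_of_index_two hi hyK hyX b.2 with h' | h'
      · rcases eq_or_eq_mul_of_index_two hi hyK hyX a.2 with h'' | h''
        · exact hcomm _ h'' _ h'
        · exact mem_centralizer_iff.1 (hKC a.2).1 _ h' |>.symm
      · show (a : P) * b = b * a
        have e1 : (a : P) * (y⁻¹ * b) = (y⁻¹ * b) * a :=
          (mem_centralizer_iff.1 (hKC a.2).1 _ h').symm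
        calc (a : P) * b = (a * y) * (y⁻¹ * b) := by group
          _ = y * (a * (y⁻¹ * b)) := by rw [hKcomm a a.2, mul_assoc]
          _ = b * a := by rw [e1]; group)⟩⟩
    exact hyX (hmax ⟨hKn, hKc, hKC.trans inf_le_right⟩ hXK hyK)
  -- the only involution of `X` is `z`
  have hzX : z ∈ X := hCX z hzT fun x _ => (hzc x).symm
  have hinv : ∀ x ∈ X, x * x = 1 → x = 1 ∨ x = z := by
    by_contra hc
    push Not at hc
    obtain ⟨x₀, hx₀X, hx₀2, hx₀1, hx₀z⟩ := hc
    let Ω : Subgroup P :=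
      { carrier := {x | x ∈ X ∧ x * x = 1}
        one_mem' := ⟨one_mem _, one_mul 1⟩
        mul_mem' := fun {a b} ha hb => ⟨mul_mem ha.1 hb.1, by
          calc a * b * (a * b) = a * (b * a) * b := by simp only [mul_assoc]
            _ = (a * a) * (b * b) := by rw [hcomm b hb.1 a ha.1]; simp only [mul_assoc]
            _ = 1 := by rw [ha.2, hb.2, one_mul]⟩
        inv_mem' := fun {a} ha => ⟨inv_mem ha.1, by rw [← mul_inv_rev, ha.2, inv_one]⟩ }
    haveI : Ω.Normal := ⟨fun x hx g => ⟨hXn.conj_mem x hx.1 g, by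
      rw [show g * x * g⁻¹ * (g * x * g⁻¹) = g * (x * x) * g⁻¹ by group, hx.2, mul_one, mul_inv_cancel]⟩⟩
    have hZmem : ∀ x ∈ zpowers z, x = 1 ∨ x = z := by
      rintro _ ⟨i, rfl⟩
      show z ^ i = 1 ∨ z ^ i = z
      rcases Int.even_or_odd' i with ⟨j, rfl | rfl⟩
      · exact Or.inl (by rw [zpow_mul, zpow_two, hzz, one_zpow])
      · exact Or.inr (by rw [zpow_add_one, zpow_mul, zpow_two, hzz, one_zpow, one_mul])
    haveI : (zpowers z).Normal := ⟨fun x hx g => by
      rcases hZmem x hx with e | e <;> rw [e]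
      · rw [mul_one, mul_inv_cancel]; exact one_mem _
      · rw [hzc g, mul_inv_cancel_right]; exact mem_zpowers z⟩
    have hlt : zpowers z < Ω := by
      refine lt_of_le_of_ne (zpowers_le.2 ⟨hzX, hzz⟩) fun he => ?_
      rcases hZmem x₀ (he ▸ ⟨hx₀X, hx₀2⟩) with h | h
      exacts [hx₀1 h, hx₀z h]
    obtain ⟨K, hKn, hZK, hKΩ, hi⟩ := Cfsg.Lib.PGroups.exists_normal_relIndex_prime hP hlt
    obtain ⟨s, hsK, hsZ⟩ : ∃ s ∈ K, s ∉ zpowers z := by
      by_contra h'
      push Not at h'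
      rw [relIndex_eq_one.2 (fun a ha => h' a ha)] at hi
      omega
    have hs1 : s ≠ 1 := fun h => hsZ (h ▸ one_mem _)
    have hsz : s ≠ z := fun h => hsZ (h ▸ mem_zpowers z)
    refine hsmall s (hXT (hKΩ hsK).1) (hKΩ hsK).2 hs1 hsz fun g => ?_
    rcases eq_or_eq_mul_of_index_two hi hsK hsZ (hKn.conj_mem s hsK g) with h | h
    · rcases hZmem _ h with h | h
      · exact absurd (conj_eq_one_iff.1 h) hs1
      · exact absurd (mul_left_cancel ((mul_inv_eq_iff_eq_mul.1 h).trans (hzc g).symm)) hsz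
    · rcases hZmem _ h with h | h
      · exact Or.inl (inv_mul_eq_one.1 h).symm
      · exact Or.inr (inv_mul_eq_iff_eq_mul.1 h)
  -- `X` is cyclic
  haveI : IsCyclic X := by
    letI : CommGroup X := { (inferInstance : Group X) with mul_comm := hXc.is_comm.comm }
    haveI : Fintype X := Fintype.ofFinite X
    have hbound : ∀ k, (Finset.univ.filter fun x : X => x ^ 2 ^ k = 1).card ≤ 2 ^ k := by
      intro k
      induction k with
      | zero => simp [Finset.filter_eq']
      | succ k ih =>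
        calc (Finset.univ.filter fun x : X => x ^ 2 ^ (k + 1) = 1).card
            ≤ 2 * (Finset.univ.filter fun x : X => x ^ 2 ^ k = 1).card := by
              refine Finset.card_le_mul_card_image_of_maps_to (f := fun x : X => x ^ 2) ?_ 2 ?_
              · intro x hx
                simp only [Finset.mem_univ, true_and, Finset.mem_filter] at hx ⊢
                rw [← pow_mul, mul_comm, ← pow_succ, hx]
              · intro y _
                rcases (Finset.filter (fun x : X => x ^ 2 = y)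
                  (Finset.univ.filter fun x : X => x ^ 2 ^ (k + 1) = 1)).eq_empty_or_nonempty with h | ⟨a₀, ha₀⟩
                · rw [h, Finset.card_empty]; omega
                simp only [Finset.mem_filter] at ha₀
                refine (Finset.card_le_card (t := {a₀, a₀ * ⟨z, hzX⟩}) ?_).trans Finset.card_le_two
                intro x hx
                simp only [Finset.mem_filter] at hx
                have h : (a₀⁻¹ * x) ^ 2 = 1 := by rw [mul_pow, inv_pow, ha₀.2, hx.2, inv_mul_cancel]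
                rcases hinv _ (a₀⁻¹ * x).2 (by simpa [pow_two] using congrArg Subtype.val h) with h' | h'
                · simp [(inv_mul_eq_one.1 (show a₀⁻¹ * x = 1 from Subtype.ext h'))]
                · simp [show x = a₀ * ⟨z, hzX⟩ from inv_mul_eq_iff_eq_mul.1 (show a₀⁻¹ * x = ⟨z, hzX⟩ from Subtype.ext h')]
          _ ≤ 2 * 2 ^ k := Nat.mul_le_mul_left 2 ih
          _ = 2 ^ (k + 1) := by rw [pow_succ, mul_comm]
    refine isCyclic_of_card_pow_eq_one_le fun n hn => ?_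
    obtain ⟨m, hm⟩ := IsPGroup.iff_card.1 (hP.to_subgroup X)
    obtain ⟨i, -, hi⟩ := (Nat.dvd_prime_pow Nat.prime_two).1
      (show Nat.gcd n (Nat.card X) ∣ 2 ^ m by rw [← hm]; exact Nat.gcd_dvd_right _ _)
    refine le_trans ?_ ((hbound i).trans (Nat.le_of_dvd hn (hi ▸ Nat.gcd_dvd_left _ _)))
    refine Finset.card_le_card fun x hx => ?_
    simp only [Finset.mem_filter, Finset.mem_univ, true_and] at hx ⊢
    rw [← hi, pow_gcd_eq_one]
    exact ⟨hx, pow_card_eq_one'⟩
  obtain ⟨⟨c, hcX⟩, hgen⟩ := IsCyclic.exists_generator (α := X)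
  have hXmem : ∀ x ∈ X, ∃ i : ℤ, c ^ i = x := fun x hx => by
    obtain ⟨i, hi⟩ := mem_zpowers_iff.1 (hgen ⟨x, hx⟩)
    exact ⟨i, congrArg Subtype.val hi⟩
  obtain ⟨k, hk⟩ : ∃ k, orderOf c = 2 ^ k := by
    obtain ⟨j, hj⟩ := hP c
    obtain ⟨k, -, hk⟩ := (Nat.dvd_prime_pow Nat.prime_two).1 (orderOf_dvd_of_pow_eq_one hj)
    exact ⟨k, hk⟩
  have hpow : ∀ i j : ℤ, c ^ i = c ^ j ↔ (2 : ℤ) ^ k ∣ j - i := zpow_eq_iff_dvd hk
  have hone : ∀ i : ℤ, c ^ i = 1 ↔ (2 : ℤ) ^ k ∣ i := fun i => by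
    rw [← zpow_zero c, eq_comm, hpow, sub_zero]
  have hk1 : 1 ≤ k := by
    by_contra h
    obtain rfl : k = 0 := by omega
    obtain ⟨i, hi⟩ := hXmem z hzX
    rw [(hone i).2 (by simp)] at hi
    exact hz1 hi.symm
  have h2k : (2 : ℤ) ∣ 2 ^ k := dvd_pow_self 2 (by omega)
  -- the action on `X`
  have hact : ∀ g : P, ∃ r : ℤ, ∀ i : ℤ, g * c ^ i * g⁻¹ = c ^ (r * i) := fun g => by
    obtain ⟨r, hr⟩ := hXmem _ (hXn.conj_mem c hcX g)
    exact ⟨r, fun i => by rw [← conj_zpow, ← hr, ← zpow_mul]⟩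
  choose R hR using hact
  have hRone : ∀ g : P, g ∈ X → (2 : ℤ) ^ k ∣ R g - 1 := fun g hg => by
    have := hR g 1
    rw [mul_one, zpow_one, hcomm g hg c hcX, mul_inv_cancel_right] at this
    exact (hpow 1 _).1 (by rw [zpow_one]; exact this)
  have hRmul : ∀ g h : P, (2 : ℤ) ^ k ∣ R (g * h) - R g * R h := fun g h => by
    refine (hpow _ _).1 ?_
    have e := hR g (R h * 1)
    rw [← hR h 1, mul_one] at e
    rw [← e, ← mul_one (R (g * h)), ← hR (g * h) 1, zpow_one]
    group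
  have hRodd : ∀ g : P, Odd (R g) := fun g => by
    have h1 := hRmul g⁻¹ g
    have h2 : (2 : ℤ) ^ k ∣ R (g⁻¹ * g) - 1 := hRone _ (by rw [inv_mul_cancel]; exact one_mem _)
    have h3 : (2 : ℤ) ∣ R g⁻¹ * R g - 1 := by
      have h4 := h2k.trans (dvd_sub h2 h1)
      simpa using h4
    rcases Int.even_or_odd (R g) with ⟨t, ht⟩ | h'
    · exfalso
      rw [ht] at h3
      obtain ⟨q, hq⟩ := h3
      have : (2 : ℤ) ∣ 1 := ⟨R g⁻¹ * t - q, by linarith⟩
      norm_num at this
    · exact h'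
  -- `z` as a power of `c`
  have hhalf : c ^ ((2 : ℤ) ^ (k - 1)) = z := by
    refine (hinv _ (zpow_mem hcX _) ?_).resolve_left fun h => ?_
    · rw [← zpow_add, hone, show (2 : ℤ) ^ k = 2 ^ (k - 1) + 2 ^ (k - 1) by
        rw [← two_mul, ← pow_succ', Nat.sub_add_cancel hk1]]
    · have h2 := Int.le_of_dvd (by positivity) ((hone _).1 h)
      have h3 : (2 : ℤ) ^ (k - 1) < 2 ^ k := pow_lt_pow_right₀ (by norm_num) (by omega)
      omega
  -- a non-trivial action of an element of `T` with trivial square is `3` modulo `4`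
  have hT3 : ∀ t ∈ T, t ∉ X → (2 : ℤ) ^ k ∣ R t * R t - 1 →
      2 ≤ k ∧ (4 : ℤ) ∣ R t + 1 := by
    intro t ht htX hsq
    have hne : ¬ (2 : ℤ) ^ k ∣ R t - 1 := fun h => htX (hCX t ht fun x hx => by
      obtain ⟨i, rfl⟩ := hXmem x hx
      refine mul_inv_eq_iff_eq_mul.1 ?_
      rw [hR, hpow]
      obtain ⟨q, hq⟩ := h
      exact ⟨-q * i, by linear_combination -i * hq⟩)
    have hk2 : 2 ≤ k := by
      by_contra h
      obtain rfl : k = 1 := by omega
      obtain ⟨q, hq⟩ := hRodd t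
      exact hne ⟨q, by rw [hq]; ring⟩
    have h4k : (4 : ℤ) ∣ 2 ^ k := by
      rw [show (4 : ℤ) = 2 ^ 2 by norm_num]; exact pow_dvd_pow 2 hk2
    refine ⟨hk2, ?_⟩
    rcases Cfsg.Lib.CyclicMax.sq_one_cases hk1 hsq with h | h | ⟨hk3, h | h⟩
    · exact absurd h hne
    · exact h4k.trans h
    · exfalso
      -- the modular case gives a normal four group
      have hcent : c ^ R t * c ^ (-1 : ℤ) = z := by
        rw [← zpow_add, ← hhalf, hpow]
        obtain ⟨q, hq⟩ := h
        exact ⟨-q, by linarith⟩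
      have htt : t * t ∈ X := hCX _ (mul_mem ht ht) fun x hx => by
        obtain ⟨i, rfl⟩ := hXmem x hx
        refine mul_inv_eq_iff_eq_mul.1 ?_
        rw [show t * t * c ^ i * (t * t)⁻¹ = t * (t * c ^ i * t⁻¹) * t⁻¹ by group, hR, hR, hpow]
        obtain ⟨q, hq⟩ := hsq
        exact ⟨-q * i, by linear_combination -i * hq⟩
      obtain ⟨m, hm⟩ := hXmem _ htt
      have hmfix : (2 : ℤ) ^ k ∣ R t * m - m := by
        rw [← hpow, ← hR, hm]; group
      obtain ⟨w, hw⟩ : ∃ w, (2 : ℤ) ^ (k - 1) = 4 * w := by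
        obtain ⟨l, hl⟩ : ∃ l, k - 1 = l + 2 := ⟨k - 3, by omega⟩
        exact ⟨2 ^ l, by rw [hl, pow_add]; ring⟩
      have hk' : (2 : ℤ) ^ k = 2 * 2 ^ (k - 1) := by rw [← pow_succ', Nat.sub_add_cancel hk1]
      have hm2 : Even m := by
        obtain ⟨q, hq⟩ := h
        obtain ⟨p, hp⟩ := hmfix
        refine ⟨p - q * m, mul_left_cancel₀ (show (2 : ℤ) ^ (k - 1) ≠ 0 by positivity) ?_⟩
        rw [show R t = 2 ^ k * q + (2 ^ (k - 1) + 1) by linarith] at hp
        linear_combination hp + (p - q * m) * hk'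
      obtain ⟨i, hi⟩ := exists_solve k (2 * w + 1) (-m) ⟨w, by ring⟩ hm2.neg
      set s := c ^ i * t with hs
      have hsT : s ∈ T := mul_mem (hXT (zpow_mem hcX _)) ht
      have hsX : s ∉ X := fun h' => htX ((mul_mem_cancel_left (zpow_mem hcX i)).1 h')
      have hconj : ∀ j : ℤ, c ^ j * s = s * c ^ j * c ^ (j * -(2 ^ (k - 1))) := fun j => by
        rw [hs, show c ^ i * t * c ^ j * c ^ (j * -(2 ^ (k - 1))) =
          c ^ i * (t * c ^ (j + j * -(2 ^ (k - 1))) * t⁻¹) * t by rw [zpow_add]; group, hR,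
          ← zpow_add, ← mul_assoc, ← zpow_add]
        congr 1
        rw [hpow]
        obtain ⟨q, hq⟩ := h
        refine ⟨q * (j - j * 2 ^ (k - 1)) - j * 2 * w, ?_⟩
        linear_combination (j - j * 2 ^ (k - 1)) * hq + (2 * j * w) * hk' - j * 2 ^ (k - 1) * hw
      have hss : s * s = 1 := by
        rw [hs, show c ^ i * t * (c ^ i * t) = c ^ i * (t * c ^ i * t⁻¹) * (t * t) by group, hR, ← hm,
          ← zpow_add, ← zpow_add, hone]
        obtain ⟨q, hq⟩ := h
        obtain ⟨p, hp⟩ := hi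
        refine ⟨q * i + p, ?_⟩
        linear_combination i * hq + hp + i * hw
      have hsc : ∀ x ∈ X, x * s = s * x ∨ x * s = s * x * z := by
        intro x hx
        obtain ⟨j, rfl⟩ := hXmem x hx
        rcases Int.even_or_odd' j with ⟨l, rfl | rfl⟩
        · refine Or.inl ?_
          rw [hconj, (hone (2 * l * -(2 ^ (k - 1)))).2 ⟨-l, by rw [hk']; ring⟩, mul_one]
        · refine Or.inr ?_
          rw [hconj, ← hhalf]
          congr 1
          rw [hpow]
          exact ⟨l + 1, by rw [hk']; ring⟩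
      refine hsmall s hsT hss (fun e => hsX (e ▸ one_mem _)) (fun e => hsX (e ▸ hzX)) fun g => ?_
      -- conjugates of `s` act as `s` does
      set v := g * s * g⁻¹ with hv
      have hvT : v ∈ T := hTn.conj_mem s hsT g
      have hsv : s * v ∈ X := hCX _ (mul_mem hsT hvT) fun x hx => by
        have hxv : ∀ y ∈ X, (y * v = v * y ↔ (g⁻¹ * y * g) * s = s * (g⁻¹ * y * g)) := fun y _ => by
          rw [hv]
          constructor <;> intro e
          · calc g⁻¹ * y * g * s = g⁻¹ * (y * (g * s * g⁻¹)) * g := by group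
              _ = s * (g⁻¹ * y * g) := by rw [e]; group
          · calc y * (g * s * g⁻¹) = g * ((g⁻¹ * y * g) * s) * g⁻¹ := by group
              _ = g * s * g⁻¹ * y := by rw [e]; group
        have hvz : ∀ y ∈ X, y * v = v * y ∨ y * v = v * y * z := fun y hy => by
          rcases hsc _ (show g⁻¹ * y * g ∈ X by simpa using hXn.conj_mem y hy g⁻¹) with e | e
          · exact Or.inl ((hxv y hy).2 e)
          · refine Or.inr ?_
            rw [hv]
            calc y * (g * s * g⁻¹) = g * ((g⁻¹ * y * g) * s) * g⁻¹ := by group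
              _ = g * (s * (g⁻¹ * y * g)) * (z * g⁻¹) := by rw [e]; simp only [mul_assoc]
              _ = g * s * g⁻¹ * y * z := by rw [← hzc g⁻¹]; group
        obtain ⟨j, rfl⟩ := hXmem x hx
        have hcv : c * v = v * c * z := (hvz c hcX).resolve_left fun e => by
          -- then `v`, hence `s`, would centralize `X`
          have hvX : v ∈ X := hCX v hvT fun x hx => by
            obtain ⟨l, rfl⟩ := hXmem x hx
            exact ((show Commute c v from e).zpow_left l).eq.symm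
          exact hsX (by simpa [hv, mul_assoc] using hXn.conj_mem v hvX g⁻¹)
        have hcs : c * s = s * c * z := (hsc c hcX).resolve_left fun e =>
          hsX (hCX s hsT fun x hx => by
            obtain ⟨l, rfl⟩ := hXmem x hx
            exact ((show Commute c s from e).zpow_left l).eq.symm)
        have e : Commute c (s * v) := by
          show c * (s * v) = s * v * c
          calc c * (s * v) = s * (c * z) * v := by rw [← mul_assoc, hcs]; simp only [mul_assoc]
            _ = s * (c * v) * z := by rw [hzc c]; simp only [mul_assoc, ← hzc v]; rw [← mul_assoc z c, ← hzc c]; simp only [mul_assoc, ← hzc v]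
            _ = s * v * c := by rw [hcv]; simp only [mul_assoc, hzz, mul_one]
        exact (e.zpow_left j).eq.symm
      have hvv : v * v = 1 := by
        rw [hv, show g * s * g⁻¹ * (g * s * g⁻¹) = g * (s * s) * g⁻¹ by group, hss, mul_one, mul_inv_cancel]
      -- `s v` lies in `X` and is inverted by `s`
      obtain ⟨j, hj⟩ := hXmem _ hsv
      have hvs : v = s * c ^ j := by rw [hj, ← mul_assoc, hss, one_mul]
      rw [hvs] at hvv
      rw [show s * c ^ j * (s * c ^ j) = s * ((c ^ j * s) * c ^ j) by group, hconj j,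
        show s * (s * c ^ j * c ^ (j * -(2 ^ (k - 1))) * c ^ j) = (s * s) * (c ^ j * c ^ (j * -(2 ^ (k - 1))) * c ^ j) by group,
        hss, one_mul, ← zpow_add, ← zpow_add, hone] at hvv
      obtain ⟨p, hp⟩ := hvv
      have h2j : (2 : ℤ) ^ k ∣ 2 * j := by
        -- `j (2 - 2^(k-1))` is divisible by `2^k`, and `1 - 2 w` is odd
        have hcop : IsCoprime ((2 : ℤ) ^ k) (1 - 2 * w) :=
          IsCoprime.pow_left ⟨w, 1, by ring⟩
        refine hcop.dvd_of_dvd_mul_right ⟨p, ?_⟩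
        linear_combination hp + j * hw
      rcases hinv (c ^ j) (zpow_mem hcX j) (by rw [← zpow_add, hone, ← two_mul]; exact h2j) with e | e <;>
        rw [e] at hvs
      · exact Or.inl (by rw [hvs, mul_one])
      · exact Or.inr hvs
    · obtain ⟨w, hw⟩ : ∃ w, (2 : ℤ) ^ (k - 1) = 4 * w := by
        obtain ⟨l, hl⟩ : ∃ l, k - 1 = l + 2 := ⟨k - 3, by omega⟩
        exact ⟨2 ^ l, by rw [hl, pow_add]; ring⟩
      obtain ⟨a, ha⟩ := h4k.trans h
      exact ⟨a + w, by linarith⟩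
  -- squares of elements of `T` lie in `X`
  have hTsq : ∀ t ∈ T, t * t ∈ X := by
    intro t ht
    by_contra htX
    obtain ⟨j, hj⟩ := hP t
    -- the last power of `t * t` outside `X`
    have hex : ∃ n, (t * t) ^ 2 ^ n ∈ X := ⟨j, by
      rw [← pow_two, ← pow_mul, mul_comm, pow_mul, hj, one_pow]; exact one_mem _⟩
    obtain ⟨n, hn⟩ : ∃ n, Nat.find hex = n + 1 :=
      ⟨Nat.find hex - 1, by
        have : Nat.find hex ≠ 0 := fun h0 => htX (by simpa [h0] using Nat.find_spec hex)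
        omega⟩
    set q := t ^ 2 ^ n with hq
    have hqq : q * q = (t * t) ^ 2 ^ n := by
      rw [hq, (Commute.refl t).mul_pow]
    have hnot : q * q ∉ X := fun h => Nat.find_min hex (by omega : n < Nat.find hex) (hqq ▸ h)
    have hmem : (q * q) * (q * q) ∈ X := by
      rw [hqq, ← pow_two, ← pow_mul, ← pow_succ, ← hn]; exact Nat.find_spec hex
    have hqT : q * q ∈ T := mul_mem (pow_mem ht _) (pow_mem ht _)
    have hs : (2 : ℤ) ^ k ∣ R (q * q) * R (q * q) - 1 := by
      have := dvd_sub (hRone _ hmem) (hRmul (q * q) (q * q))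
      simpa using this
    obtain ⟨hk2, h4⟩ := hT3 _ hqT hnot hs
    obtain ⟨b, hb⟩ := hRodd q
    have h5 : (4 : ℤ) ∣ R (q * q) - R q * R q :=
      (show (4 : ℤ) ∣ 2 ^ k by rw [show (4 : ℤ) = 2 ^ 2 by norm_num]; exact pow_dvd_pow 2 hk2).trans (hRmul q q)
    rw [hb] at h5
    obtain ⟨x, hx⟩ := h4
    obtain ⟨y, hy⟩ := h5
    have : (4 : ℤ) ∣ 2 := ⟨x - y - b * b - b, by linarith⟩
    norm_num at this
  have hT3' : ∀ t ∈ T, t ∉ X → 2 ≤ k ∧ (4 : ℤ) ∣ R t + 1 := fun t ht htX =>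
    hT3 t ht htX (by simpa using dvd_sub (hRone _ (hTsq t ht)) (hRmul t t))
  obtain ⟨s, hsT, hss, hs1, hsz⟩ := hrank
  have hsX : s ∉ X := fun h => (hinv s h hss).elim hs1 hsz
  obtain ⟨hk2, hs3⟩ := hT3' s hsT hsX
  have h4k : (4 : ℤ) ∣ 2 ^ k := by
    rw [show (4 : ℤ) = 2 ^ 2 by norm_num]; exact pow_dvd_pow 2 hk2
  have hTX : ∀ t ∈ T, t ∈ X ∨ t * s ∈ X := by
    intro t ht
    by_contra hc
    push Not at hc
    obtain ⟨-, a, ha⟩ := hT3' t ht hc.1
    obtain ⟨-, b, hb⟩ := hT3' _ (mul_mem ht hsT) hc.2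
    obtain ⟨d, hd⟩ := hs3
    obtain ⟨e, he⟩ := h4k.trans (hRmul t s)
    have h1 : R t = 4 * a - 1 := by linarith
    have h2 : R s = 4 * d - 1 := by linarith
    rw [h1, h2] at he
    have : (4 : ℤ) ∣ 2 := ⟨b - e - (4 * a * d - a - d), by linarith⟩
    norm_num at this
  have hidx : X.relIndex T = 2 := by
    refine relIndex_eq_two_iff.2 ⟨s, hsT, fun b hb => ?_⟩
    rcases hTX b hb with h | h
    · refine Or.inr ⟨h, fun h' => hsX ?_⟩
      simpa using mul_mem (inv_mem h) h'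
    · refine Or.inl ⟨h, fun h' => hsX ?_⟩
      simpa using mul_mem (inv_mem h') h
  have hPsq : ∀ g : P, g * g ∈ X := by
    intro g
    obtain ⟨t, ht, u, hu, rfl⟩ := hTU g
    have huu : u * u = 1 := by
      haveI := hU
      exact congrArg Subtype.val (IsKleinFour.mul_self (⟨u, hu⟩ : U))
    have hui := hsqeq u huu
    rw [show t * u * (t * u) = t * (u * t * u⁻¹) * (u * u) by group, huu, mul_one]
    have hmu : u * t * u⁻¹ ∈ T := hTn.conj_mem t ht u
    by_cases htX : t ∈ X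
    · exact mul_mem htX (hXn.conj_mem t htX u)
    · have h1 : u * t * u⁻¹ ∉ X := fun h => htX (by simpa [mul_assoc] using hXn.conj_mem _ h u⁻¹)
      exact (mul_mem_iff_of_index_two (H := X.subgroupOf T) hidx (a := ⟨t, ht⟩) (b := ⟨_, hmu⟩)).2
        ⟨fun h => absurd h htX, fun h => absurd h h1⟩
  -- conjugation of `s`
  set r := R s with hr
  have hcs : ∀ i : ℤ, s * c ^ i = c ^ (r * i) * s := fun i => mul_inv_eq_iff_eq_mul.1 (hR s i)
  have hr2 : (2 : ℤ) ^ k ∣ r * r - 1 := by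
    simpa using dvd_sub (hRone _ (hTsq s hsT)) (hRmul s s)
  have hinvol : ∀ i : ℤ, c ^ i * s * (c ^ i * s) = c ^ (i + r * i) := fun i => by
    rw [show c ^ i * s * (c ^ i * s) = c ^ i * (s * c ^ i) * s by group, hcs, ← mul_assoc, ← zpow_add,
      mul_assoc, hss, mul_one]
  have huconj : ∀ u : P, ∃ m : ℤ, u * s * u⁻¹ = c ^ m * s ∧ (2 : ℤ) ^ k ∣ m + r * m := by
    intro u
    have h1 := hTn.conj_mem s hsT u
    rcases hTX _ h1 with h | h
    · exact absurd (by simpa [mul_assoc] using hXn.conj_mem _ h u⁻¹) hsX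
    · obtain ⟨m, hm⟩ := hXmem _ h
      have hm' : u * s * u⁻¹ = c ^ m * s := by rw [hm, mul_assoc _ s s, hss, mul_one]
      refine ⟨m, hm', ?_⟩
      rw [← hone, ← hinvol, ← hm', show u * s * u⁻¹ * (u * s * u⁻¹) = u * (s * s) * u⁻¹ by group, hss,
        mul_one, mul_inv_cancel]
  choose M hM hMd using huconj
  have hUmem : ∀ u : U, (u : P) * u = 1 := fun u => by
    haveI := hU
    exact congrArg Subtype.val (IsKleinFour.mul_self u)
  have hfix : ∀ u ∈ U, u ≠ 1 → ∀ j : ℤ, (2 : ℤ) ^ k ∣ j + r * j →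
      (2 : ℤ) ^ k ∣ R u * j + M u - j → False := by
    intro u hu hu1 j hj1 hj2
    refine hcon ⟨u, hu, hu1, c ^ j * s, mul_mem (hXT (zpow_mem hcX _)) hsT, ?_, ?_, ?_, ?_⟩
    · rw [hinvol, hone]; exact hj1
    · exact fun e => hsX ((mul_mem_cancel_left (zpow_mem hcX j)).1 (by rw [e]; exact one_mem _))
    · exact fun e => hsX ((mul_mem_cancel_left (zpow_mem hcX j)).1 (by rw [e]; exact hzX))
    · refine mul_inv_eq_iff_eq_mul.1 ?_
      rw [show u * (c ^ j * s) * u⁻¹ = (u * c ^ j * u⁻¹) * (u * s * u⁻¹) by group, hR, hM, ← mul_assoc,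
        ← zpow_add]
      congr 1
      rw [hpow]
      exact (dvd_neg.2 hj2).trans (dvd_of_eq (by ring))
  have hMmul : ∀ u v : P, (2 : ℤ) ^ k ∣ M (u * v) - (R u * M v + M u) := fun u v => by
    refine (hpow _ _).1 (mul_right_cancel (b := s) ?_)
    rw [← hM (u * v), show u * v * s * (u * v)⁻¹ = u * (v * s * v⁻¹) * u⁻¹ by group, hM v,
      show u * (c ^ M v * s) * u⁻¹ = (u * c ^ M v * u⁻¹) * (u * s * u⁻¹) by group, hR, hM u, ← mul_assoc,
      ← zpow_add]
  -- the choice of `u`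
  obtain ⟨u, hu, hu1, hum, hua⟩ : ∃ u ∈ U, u ≠ 1 ∧ Even (M u) ∧
      ((4 : ℤ) ∣ R u - 1 ∨ (2 : ℤ) ^ k ∣ r + 1) := by
    haveI : Nontrivial U := Finite.one_lt_card_iff_nontrivial.1 (by rw [hU.card_four]; norm_num)
    obtain ⟨u₁, hu₁⟩ := exists_ne (1 : U)
    obtain ⟨u₂, hu₂, hu₂'⟩ : ∃ u₂ : U, u₂ ≠ 1 ∧ u₂ ≠ u₁ := by
      by_contra hc
      push Not at hc
      have h1 : (Set.univ : Set U) ⊆ {1, u₁} := fun x _ => by
        by_cases hx : x = 1
        · exact Or.inl hx
        · exact Or.inr (hc x hx)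
      have h2 := (Set.ncard_le_ncard h1).trans (Set.ncard_insert_le _ _)
      rw [Set.ncard_singleton, Set.ncard_univ, hU.card_four] at h2
      omega
    have hne1 : ∀ u : U, u ≠ 1 → (u : P) ≠ 1 := fun u h e => h (Subtype.ext e)
    have h3 : (u₁ * u₂ : U) ≠ 1 := fun he => by
      have : u₁⁻¹ = u₁ := inv_eq_of_mul_eq_one_right (Subtype.ext (hUmem u₁))
      exact hu₂' ((eq_inv_of_mul_eq_one_right he).trans this)
    by_cases hdih : (2 : ℤ) ^ k ∣ r + 1
    · -- parity of `M` is multiplicative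
      by_contra hc
      push Not at hc
      have hodd : ∀ u : U, u ≠ 1 → Odd (M u) := fun u h =>
        Int.not_even_iff_odd.1 fun he => (hc u u.2 (hne1 u h) he).2 hdih
      obtain ⟨a, ha⟩ := hodd _ hu₁
      obtain ⟨b, hb⟩ := hodd _ hu₂
      obtain ⟨d, hd⟩ := hodd _ h3
      obtain ⟨e, he⟩ := h2k.trans (hMmul u₁ u₂)
      obtain ⟨f, hf⟩ := hRodd (u₁ : P)
      push_cast at hd
      rw [hd, ha, hb, hf] at he
      have : (2 : ℤ) ∣ 1 := ⟨-e + d - a - (2 * f * b + b + f) - 0, by linarith⟩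
      norm_num at this
    · -- here `2^k` does not divide `r + 1`, so every `M u` is even
      have heven : ∀ u : P, Even (M u) := by
        intro u
        by_contra ho
        rw [Int.not_even_iff_odd] at ho
        obtain ⟨t, ht⟩ := ho
        refine hdih ((IsCoprime.pow_left (show IsCoprime (2 : ℤ) (M u) from
          ⟨-t, 1, by rw [ht]; ring⟩)).dvd_of_dvd_mul_left ?_)
        exact (hMd u).trans (dvd_of_eq (by ring))
      by_contra hc
      push Not at hc
      have hneg : ∀ u : U, u ≠ 1 → (4 : ℤ) ∣ R u + 1 := by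
        intro u h
        obtain ⟨b, hb⟩ := hRodd (u : P)
        rcases Int.even_or_odd' b with ⟨x, rfl | rfl⟩
        · exact absurd ⟨x, by rw [hb]; ring⟩ (hc u u.2 (hne1 u h) (heven _)).1
        · exact ⟨x + 1, by rw [hb]; ring⟩
      obtain ⟨a, ha⟩ := hneg _ hu₁
      obtain ⟨b, hb⟩ := hneg _ hu₂
      obtain ⟨d, hd⟩ := hneg _ h3
      obtain ⟨e, he⟩ := h4k.trans (hRmul u₁ u₂)
      push_cast at hd
      rw [show R (u₁ : P) = 4 * a - 1 by linarith, show R (u₂ : P) = 4 * b - 1 by linarith] at he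
      have : (4 : ℤ) ∣ 2 := ⟨d - e - (4 * a * b - a - b), by linarith⟩
      norm_num at this
  obtain ⟨b, hb⟩ := hRodd u
  rcases Int.even_or_odd' b with ⟨a, rfl | rfl⟩
  · -- `R u` is `1` modulo `4`
    obtain ⟨x, hx⟩ := hs3
    obtain ⟨i, hi⟩ := exists_solve k (2 * x - 1) (M u) ⟨x - 1, by ring⟩ hum
    have hrm : r - 1 = 2 * (2 * x - 1) := by linarith
    set g := c ^ i * u with hg
    have hgs : g * s = s * g := by
      refine mul_inv_eq_iff_eq_mul.1 ?_
      rw [hg, show c ^ i * u * s * (c ^ i * u)⁻¹ = c ^ i * (u * s * u⁻¹) * (c ^ i)⁻¹ by group, hM,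
        ← zpow_neg, show c ^ i * (c ^ M u * s) * c ^ (-i) = c ^ i * c ^ M u * (s * c ^ (-i)) by group, hcs,
        ← zpow_add, ← mul_assoc, ← zpow_add]
      nth_rw 2 [← one_mul s]
      congr 1
      rw [hone]
      exact (dvd_neg.2 hi).trans (dvd_of_eq (by linear_combination i * hrm))
    have hg4 : g * g * (g * g) = 1 := by
      obtain ⟨l, hl⟩ := hXmem _ (hPsq g)
      have h1 : c ^ (r * l) = c ^ l := by
        rw [← hR s l, hl]
        refine mul_inv_eq_iff_eq_mul.2 ?_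
        exact ((show Commute g s from hgs).mul_left hgs).eq.symm
      rw [hpow] at h1
      have hcop : IsCoprime ((2 : ℤ) ^ k) (2 * x - 1) := IsCoprime.pow_left ⟨x, -1, by ring⟩
      rw [← hl, ← zpow_add, hone, ← two_mul]
      refine hcop.dvd_of_dvd_mul_right ((dvd_neg.2 h1).trans (dvd_of_eq ?_))
      linear_combination l * hrm
    rcases hinv (g * g) (hPsq g) hg4 with h | h
    · -- `g` is an involution
      rw [hg, show c ^ i * u * (c ^ i * u) = c ^ i * (u * c ^ i * u⁻¹) * (u * u) by group, hUmem ⟨u, hu⟩,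
        mul_one, hR, ← zpow_add, hone] at h
      have hcop : IsCoprime ((2 : ℤ) ^ k) (2 * a + 1) := IsCoprime.pow_left ⟨-a, 1, by ring⟩
      have h2i : (2 : ℤ) ^ k ∣ 2 * i := hcop.dvd_of_dvd_mul_right (h.trans (dvd_of_eq (by rw [hb]; ring)))
      have hmz : (2 : ℤ) ^ k ∣ M u := by
        obtain ⟨y, hy⟩ := h2i
        obtain ⟨w, hw⟩ := hi
        exact ⟨(2 * x - 1) * y - w, by linear_combination -hw + (2 * x - 1) * hy⟩
      exact hfix u hu hu1 0 (by simp) (by simpa using hmz)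
    · exact hfus X hXT hidx hinv hPsq g s hsT hsX hss hgs h
  · -- `R u` is `3` modulo `4`
    have hdih : (2 : ℤ) ^ k ∣ r + 1 := hua.resolve_left fun h => by
      obtain ⟨y, hy⟩ := h
      rw [hb] at hy
      omega
    obtain ⟨i, hi⟩ := exists_solve k (2 * a + 1) (-M u) ⟨a, rfl⟩ hum.neg
    refine hfix u hu hu1 i ?_ ?_
    · exact hdih.trans ⟨i, by ring⟩
    · exact hi.trans (dvd_of_eq (by rw [hb]; ring))

end Cfsg.Lib.FoursRankOne
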