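/-
A four group acting on a perfect group of 2-rank at least two: some non-identity element
centralizes two commuting involutions.
-/
import Cfsg.Agent.Components.FoursRankOne.Core
import Cfsg.Agent.Transfer.ThompsonTransfer
import Cfsg.Agent.Transfer.FittingPower
import Cfsg.Agent.PGroups.NormalFour

set_option autoImplicit false
set_option linter.style.haveILetI false

namespace Cfsg.Lib.FoursRankOne

open Subgroup

variable {H : Type*} [Group H] [Finite H]

theorem exists_centralized (A : Subgroup H) [hAn : A.Normal] (hperf : ⁅A, A⁆ = A) (U : Subgroup H)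
    (hU : IsKleinFour U) (hAU : ∀ h : H, ∃ a ∈ A, ∃ u ∈ U, h = a * u)
    (hrank : ∃ a ∈ A, ∃ b ∈ A, a * a = 1 ∧ b * b = 1 ∧ a * b = b * a ∧ a ≠ 1 ∧ b ≠ 1 ∧ a ≠ b) :
    ∃ u ∈ U, u ≠ 1 ∧ ∃ z ∈ A, ∃ s ∈ A, z * z = 1 ∧ s * s = 1 ∧ z ≠ 1 ∧ s ≠ 1 ∧ s ≠ z ∧
      z * s = s * z ∧ u * z = z * u ∧ u * s = s * u := by
  classical
  haveI : Fact (Nat.Prime 2) := ⟨Nat.prime_two⟩
  obtain ⟨P, hUP⟩ := (IsPGroup.of_card (n := 2) (show Nat.card U = 2 ^ 2 by rw [hU.card_four]; norm_num)).exists_le_sylow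
  set T : Subgroup (P : Subgroup H) := A.subgroupOf (P : Subgroup H) with hT
  -- a four subgroup of `A` inside `P`
  obtain ⟨a, ha, b, hb, haa, hbb, hab, ha1, hb1, hne⟩ := hrank
  obtain ⟨h4, -⟩ := Cfsg.Lib.PGroups.card_closure_pair haa hbb ha1 hb1 (Ne.symm hne) hab
  obtain ⟨P', hP'⟩ := (IsPGroup.of_card (n := 2)
    (show Nat.card (closure ({a, b} : Set H)) = 2 ^ 2 by rw [h4]; norm_num)).exists_le_sylow
  obtain ⟨g, hg⟩ := MulAction.exists_smul_eq H P' P
  have hmove : ∀ x ∈ A, x ∈ closure ({a, b} : Set H) → g * x * g⁻¹ ∈ A ∧ g * x * g⁻¹ ∈ (P : Subgroup H) :=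
    fun x hxA hx => ⟨hAn.conj_mem x hxA g, by
      rw [← hg, Sylow.smul_def, Sylow.pointwise_smul_def]
      exact ⟨x, hP' hx, rfl⟩⟩
  obtain ⟨haA, haP⟩ := hmove a ha (subset_closure (Set.mem_insert _ _))
  obtain ⟨hbA, hbP⟩ := hmove b hb (subset_closure (Set.mem_insert_of_mem _ rfl))
  have hTne : T ≠ ⊥ := fun h => by
    have : (⟨g * a * g⁻¹, haP⟩ : (P : Subgroup H)) ∈ T := haA
    rw [h, mem_bot] at this
    exact ha1 (conj_eq_one_iff.1 (congrArg Subtype.val this))
  obtain ⟨z, hzT, hzZ, hzo⟩ := Cfsg.Lib.PGroups.exists_mem_center_of_normal_ne_bot P.isPGroup' hTne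
  have hzc : ∀ x : (P : Subgroup H), x * z = z * x := fun x => mem_center_iff.1 hzZ x
  have hzz : z * z = 1 := by
    have := pow_orderOf_eq_one z
    rwa [hzo, pow_two] at this
  have hz1 : z ≠ 1 := fun h => by rw [h, orderOf_one] at hzo; omega
  have hinvol : ∀ x : H, x * x = 1 → g * x * g⁻¹ * (g * x * g⁻¹) = 1 := fun x hx => by
    rw [show g * x * g⁻¹ * (g * x * g⁻¹) = g * (x * x) * g⁻¹ by group, hx, mul_one, mul_inv_cancel]
  have hrk : ∃ s ∈ T, s * s = 1 ∧ s ≠ 1 ∧ s ≠ z := by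
    by_cases h : (⟨g * a * g⁻¹, haP⟩ : (P : Subgroup H)) = z
    · refine ⟨⟨g * b * g⁻¹, hbP⟩, hbA, Subtype.ext (hinvol b hbb), ?_, ?_⟩
      · exact fun e => hb1 (conj_eq_one_iff.1 (congrArg Subtype.val e))
      · intro e
        have := congrArg Subtype.val (e.trans h.symm)
        simp only [mul_left_inj, mul_right_inj] at this
        exact hne this.symm
    · exact ⟨⟨g * a * g⁻¹, haP⟩, haA, Subtype.ext (hinvol a haa),
        fun e => ha1 (conj_eq_one_iff.1 (congrArg Subtype.val e)), h⟩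
  have hTU : ∀ x : (P : Subgroup H), ∃ t ∈ T, ∃ u ∈ U.subgroupOf (P : Subgroup H), x = t * u := by
    intro x
    obtain ⟨a', ha', u, hu, he⟩ := hAU x
    have haP' : a' ∈ (P : Subgroup H) := by
      rw [show a' = (x : H) * u⁻¹ by rw [he]; group]
      exact mul_mem x.2 (inv_mem (hUP hu))
    exact ⟨⟨a', haP'⟩, ha', ⟨u, hUP hu⟩, hu, Subtype.ext he⟩
  have hU' : IsKleinFour (U.subgroupOf (P : Subgroup H)) := by
    haveI := hU
    refine ⟨?_, ?_⟩
    · rw [Nat.card_congr (subgroupOfEquivOfLe hUP).toEquiv]; exact hU.card_four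
    · rw [Monoid.exponent_eq_of_mulEquiv (subgroupOfEquivOfLe hUP)]; exact hU.exponent_two
  have hfus : ∀ X : Subgroup (P : Subgroup H), X ≤ T → X.relIndex T = 2 →
      (∀ x ∈ X, x * x = 1 → x = 1 ∨ x = z) → (∀ g, g * g ∈ X) →
      ∀ g s : (P : Subgroup H), s ∈ T → s ∉ X → s * s = 1 → g * s = s * g → g * g = z → False := by
    intro X hXT hidx hinv hsq g₀ s hsT hsX hss hgs hgz
    -- the fusion configuration cannot occur
    -- `X` has index twice an odd number in `A`
    set Q : Subgroup A := (X.map (P : Subgroup H).subtype).subgroupOf A with hQ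
    have hmapT : T.map (P : Subgroup H).subtype = A ⊓ (P : Subgroup H) := subgroupOf_map_subtype A P
    have hodd : Odd ((A ⊓ (P : Subgroup H)).relIndex A) := by
      rw [inf_comm, inf_relIndex_right, Cfsg.Lib.Transfer.relIndex_eq_relIndex_sup_of_normal]
      exact Nat.odd_iff.2 (Nat.two_dvd_ne_zero.1 fun h =>
        P.not_dvd_index (h.trans (relIndex_dvd_index_of_le le_sup_left)))
    have hQidx : Q.index = 2 * (A ⊓ (P : Subgroup H)).relIndex A := by
      show (X.map (P : Subgroup H).subtype).relIndex A = _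
      rw [← relIndex_mul_relIndex (X.map (P : Subgroup H).subtype) (A ⊓ (P : Subgroup H)) A
        (hmapT ▸ map_mono hXT) inf_le_left, ← hmapT, relIndex_map_map_of_injective _ _ (P : Subgroup H).subtype_injective,
        hidx]
    have hs1 : (s : H) ≠ 1 := fun e => hsX ((Subtype.ext e : s = 1) ▸ one_mem _)
    have hsA : (s : H) ∈ A := hsT
    have hso : orderOf (⟨(s : H), hsA⟩ : A) = 2 := by
      refine orderOf_eq_prime ?_ fun e => hs1 (congrArg Subtype.val e)
      exact Subtype.ext (by show (s : H) ^ 2 = 1; rw [pow_two]; exact congrArg Subtype.val hss)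
    obtain ⟨a₀, ha₀⟩ : ∃ a₀ : A, a₀⁻¹ * ⟨(s : H), hsA⟩ * a₀ ∈ Q := by
      by_contra hc
      push Not at hc
      obtain ⟨M, hMn, hM2, hMs⟩ := Cfsg.Lib.Transfer.exists_index_two_not_mem Q hodd hQidx hso hc
      haveI := hMn
      haveI : IsCyclic (A ⧸ M) := isCyclic_of_prime_card (p := 2) (by rw [← index_eq_card]; exact hM2)
      have hcomm : commutator A ≤ M := by
        have : Std.Commutative (· * · : A ⧸ M → A ⧸ M → A ⧸ M) := ⟨fun x y => IsMulCommutative.is_comm.comm x y⟩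
        exact Subgroup.Normal.quotient_commutative_iff_commutator_le.1 inferInstance
      refine hMs (hcomm ?_)
      have : commutator A = ⊤ := by
        apply map_injective A.subtype_injective
        rw [_root_.commutator_def, map_commutator, ← MonoidHom.range_eq_map, range_subtype, hperf]
      rw [this]; exact mem_top _
    obtain ⟨x, hxX, hxe⟩ := ha₀
    have hxe' : (x : H) = (a₀ : H)⁻¹ * s * a₀ := by simpa using hxe
    have hxz : x = z := by
      refine (hinv x hxX (Subtype.ext ?_)).resolve_left fun e => hs1 ?_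
      · show (x : H) * x = 1
        rw [hxe', show (a₀ : H)⁻¹ * s * a₀ * ((a₀ : H)⁻¹ * s * a₀) = (a₀ : H)⁻¹ * ((s : H) * s) * a₀ by group,
          show (s : H) * s = 1 from congrArg Subtype.val hss, mul_one, inv_mul_cancel]
      · rw [e] at hxe'
        exact conj_eq_one_iff.1 (show (a₀ : H)⁻¹ * s * (a₀ : H)⁻¹⁻¹ = 1 by rw [inv_inv]; exact hxe'.symm)
    rw [hxz] at hxe'
    set n : H := (a₀ : H)⁻¹ with hn
    have hnsz : n * s * n⁻¹ = z := by rw [hn, inv_inv]; exact hxe'.symm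
    -- move the centralizer of `s` in `P` into `P`
    let R : Subgroup H := ((P : Subgroup H) ⊓ centralizer ({(s : H)} : Set H)).map (MulAut.conj n).toMonoidHom
    let C : Subgroup H := centralizer ({(z : H)} : Set H)
    have hPC : (P : Subgroup H) ≤ C := fun x hx =>
      mem_centralizer_singleton_iff.2 (congrArg Subtype.val (hzc ⟨x, hx⟩))
    have hRC : R ≤ C := by
      rintro _ ⟨x, hx, rfl⟩
      refine mem_centralizer_singleton_iff.2 ?_
      show n * x * n⁻¹ * z = z * (n * x * n⁻¹)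
      rw [← hnsz, show n * x * n⁻¹ * (n * s * n⁻¹) = n * (x * s) * n⁻¹ by group,
        mem_centralizer_singleton_iff.1 hx.2]
      group
    have hRp : IsPGroup 2 R := (P.isPGroup'.to_le inf_le_left).map _
    let P₀ : Sylow 2 C := P.subtype hPC
    obtain ⟨R', hR'⟩ := (hRp.of_equiv (subgroupOfEquivOfLe hRC).symm).exists_le_sylow
    obtain ⟨q, hq⟩ := MulAction.exists_smul_eq C R' P₀
    have hin : ∀ x : (P : Subgroup H), (x : H) * s = s * x →
        (q : H) * (n * x * n⁻¹) * (q : H)⁻¹ ∈ (P : Subgroup H) := by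
      intro x hx
      have hxR : n * (x : H) * n⁻¹ ∈ R := ⟨x, ⟨x.2, mem_centralizer_singleton_iff.2 hx⟩, rfl⟩
      have h1 : (⟨n * (x : H) * n⁻¹, hRC hxR⟩ : C) ∈ (R' : Subgroup C) := hR' hxR
      have h2 : q * ⟨n * (x : H) * n⁻¹, hRC hxR⟩ * q⁻¹ ∈ (P₀ : Subgroup C) := by
        rw [← hq, Sylow.smul_def, Sylow.pointwise_smul_def]
        exact ⟨_, h1, rfl⟩
      exact h2
    set f : H := (q : H) * n with hf
    have hfs : f * s * f⁻¹ = z := by
      rw [hf, show (q : H) * n * s * ((q : H) * n)⁻¹ = (q : H) * (n * s * n⁻¹) * (q : H)⁻¹ by group, hnsz,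
        mem_centralizer_singleton_iff.1 q.2, mul_inv_cancel_right]
    have hgP := hin g₀ (congrArg Subtype.val hgs)
    rw [show (q : H) * (n * g₀ * n⁻¹) * (q : H)⁻¹ = f * g₀ * f⁻¹ by rw [hf]; group] at hgP
    have hsq' := hsq ⟨_, hgP⟩
    have hval : f * g₀ * f⁻¹ * (f * g₀ * f⁻¹) = f * z * f⁻¹ := by
      rw [show f * g₀ * f⁻¹ * (f * g₀ * f⁻¹) = f * ((g₀ : H) * g₀) * f⁻¹ by group,
        show (g₀ : H) * g₀ = z from congrArg Subtype.val hgz]
    have hfour : f * g₀ * f⁻¹ * (f * g₀ * f⁻¹) * (f * g₀ * f⁻¹ * (f * g₀ * f⁻¹)) = 1 := by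
      show f * g₀ * f⁻¹ * (f * g₀ * f⁻¹) * (f * g₀ * f⁻¹ * (f * g₀ * f⁻¹)) = 1
      rw [hval, show f * z * f⁻¹ * (f * z * f⁻¹) = f * ((z : H) * z) * f⁻¹ by group,
        show (z : H) * z = 1 from congrArg Subtype.val hzz, mul_one, mul_inv_cancel]
    rcases hinv _ hsq' (Subtype.ext hfour) with e | e
    · have := congrArg Subtype.val e
      rw [Subgroup.coe_mul, Subgroup.coe_one, hval] at this
      exact hz1 (Subtype.ext (conj_eq_one_iff.1 this))
    · have := congrArg Subtype.val e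
      rw [Subgroup.coe_mul, hval] at this
      have he : (z : H) = s := mul_left_cancel (mul_right_cancel (this.trans hfs.symm))
      exact hsX (by rw [← Subtype.ext he]; exact (hxz ▸ hxX))
  obtain ⟨u, hu, hu1, s, hsT, hss, hs1, hsz, hus⟩ := core P.isPGroup' T (U.subgroupOf (P : Subgroup H))
    hU' hTU z hzT hzc hzz hz1 hrk hfus
  exact ⟨u, hu, fun e => hu1 (Subtype.ext e), z, hzT, s, hsT, congrArg Subtype.val hzz,
    congrArg Subtype.val hss, fun e => hz1 (Subtype.ext e), fun e => hs1 (Subtype.ext e),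
    fun e => hsz (Subtype.ext e), congrArg Subtype.val (hzc s).symm, congrArg Subtype.val (hzc u),
    congrArg Subtype.val hus⟩

end Cfsg.Lib.FoursRankOne
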